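import Cfsg.Agent.Lib.ThreeTransp.M24Quad.Kernel
import Cfsg.Agent.Lib.ThreeTransp.M24Sign
import Cfsg.Agent.Lib.ThreeTransp.M24TripleCent
import Cfsg.Agent.Lib.Local.CharP
import Cfsg.Agent.Lib.LargeExtra.Extraspecial
import Cfsg.Agent.Lib.LargeExtra.SubExtra

/-!
# Groups of type `M(24)`: the centraliser in the derived group of a product of four commuting members
-/

set_option autoImplicit false

namespace CfsgLib.M24Quad

open CfsgLib.ThreeTransp CfsgLib.SporMisc CfsgLib.M24 CfsgLib.M24Sylow CfsgLib.ThreeTransp.Factor CfsgLib.CommProd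
open CfsgLib.M22Sylow
open scoped commutatorElement

variable {G : Type*} [Group G] [Finite G] {D : Set G} [DecidableEq G] (S : M24.Setup D) {z : G}
  (hz : ∃ a b c d, Quad D a b c d ∧ a * b * c * d = z)
include S hz

theorem r_injective : Function.Injective (refB S (z := z)) := by
  intro A B h
  by_contra hne
  have hcard : Nat.card (Pt D z) = 126 := card_pt S hz
  by_cases hadj : ptAdj A B
  · obtain ⟨C, hC, hCB⟩ : ∃ C, ptAdj A C ∧ ¬ (C = B ∨ ptAdj B C) := by
      by_contra hc
      push Not at hc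
      have hsub : {C : Pt D z | ptAdj A C} ⊆ insert B {C | ptAdj A C ∧ ptAdj B C} := fun C hC => by
        by_cases hb : C = B
        · exact Or.inl hb
        · exact Or.inr ⟨hC, (hc C hC).resolve_left hb⟩
      have h' := (Set.ncard_le_ncard hsub (Set.toFinite _)).trans (Set.ncard_insert_le _ _)
      rw [nbrs_ncard S A, (common_pts S hadj).1] at h'
      omega
    push Not at hCB
    exact (blockGraph S).r_move (Ne.symm hCB.1) hCB.2 (by
      show refB S B C = C
      rw [← h]; exact refB_adj S hC)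
  · exact (blockGraph S).r_move hne hadj (by
      show refB S A B = B
      rw [h]; exact (blockGraph S).r_self B)

theorem theta_refB (g : ↥(CZ z)) (A : Pt D z) :
    theta S g * refB S A * (theta S g)⁻¹ = refB S (theta S g A) := by
  obtain ⟨x, hx⟩ := A.2.nonempty
  rw [← theta_member S hx ⟨x, member_cz S hx⟩ rfl, ← map_inv, ← map_mul, ← map_mul]
  exact theta_member S (theta_mem S hx) _ rfl

theorem rDer_noncomm : Subgroup.center ↥(QGraph.rDer (blockGraph S (z := z))) = ⊥ := by
  obtain ⟨f, ⟨γ⟩⟩ := exists_data S hz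
  obtain ⟨-, hs, -, hc⟩ := QGraph.Frame.rDer_main γ
  rcases IsSimpleGroup.eq_bot_or_eq_top_of_normal (Subgroup.center ↥(QGraph.rDer (blockGraph S (z := z))))
    inferInstance with h | h
  · exact h
  · exfalso
    letI : CommGroup ↥(QGraph.rDer (blockGraph S (z := z))) :=
      { (inferInstance : Group ↥(QGraph.rDer (blockGraph S (z := z)))) with
        mul_comm := fun a b => Subgroup.mem_center_iff.1 (h ▸ Subgroup.mem_top b) a }
    have hp := IsSimpleGroup.prime_card (α := ↥(QGraph.rDer (blockGraph S (z := z))))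
    rw [hc] at hp
    norm_num at hp

/-- An automorphism commuting with the derived group is trivial. -/
theorem trivial_of_commute {n : ↥(CZ z)}
    (h : ∀ d ∈ QGraph.rDer (blockGraph S (z := z)), theta S n * d = d * theta S n) : theta S n = 1 := by
  obtain ⟨f, ⟨γ⟩⟩ := exists_data S hz
  set N := theta S n
  have hpair : ∀ X Y : Pt D z, refB S X * refB S Y ∈ QGraph.rDer (blockGraph S (z := z)) := fun X Y => by
    have h1 := mul_mem (inv_mem (QGraph.Frame.r_mod γ X)) (QGraph.Frame.r_mod γ Y)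
    rwa [mul_inv_rev, inv_eq_of_mul_eq_one_left ((blockGraph S).r_sq X),
      inv_eq_of_mul_eq_one_left ((blockGraph S).r_sq (f.e 0)), mul_assoc,
      ← mul_assoc ((blockGraph S).r (f.e 0)), (blockGraph S).r_sq, one_mul] at h1
  have e1 : ∀ X Y, refB S (N X) * refB S (N Y) = refB S X * refB S Y := fun X Y => by
    rw [← theta_refB S hz n X, ← theta_refB S hz n Y,
      show N * refB S X * N⁻¹ * (N * refB S Y * N⁻¹) = N * (refB S X * refB S Y) * N⁻¹ by group,
      h _ (hpair X Y), mul_inv_cancel_right]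
  have hsq : ∀ X, refB S X * refB S X = (1 : Equiv.Perm (Pt D z)) := (blockGraph S).r_sq
  have e2 : ∀ X Y, refB S (N X) * refB S X = refB S (N Y) * refB S Y := fun X Y => by
    calc refB S (N X) * refB S X = refB S (N X) * refB S X * (refB S Y * refB S Y) := by rw [hsq, mul_one]
      _ = refB S (N X) * (refB S (N X) * refB S (N Y)) * refB S Y := by rw [e1]; simp only [mul_assoc]
      _ = refB S (N Y) * refB S Y := by rw [← mul_assoc (refB S (N X)), hsq, one_mul]
  refine Equiv.ext fun X => r_injective S hz ?_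
  rw [Equiv.Perm.one_apply]
  have hc : refB S (N X) * refB S X = 1 := by
    have hm := hpair (N X) X
    have hcen : (⟨_, hm⟩ : ↥(QGraph.rDer (blockGraph S (z := z)))) ∈
        Subgroup.center ↥(QGraph.rDer (blockGraph S (z := z))) := by
      refine Subgroup.mem_center_iff.2 fun d => Subtype.ext ?_
      obtain ⟨g, hg⟩ := rGroup_le_range S hz (QGraph.rDer_le d.2)
      show (d : Equiv.Perm (Pt D z)) * (refB S (N X) * refB S X) = refB S (N X) * refB S X * d
      refine mul_inv_eq_iff_eq_mul.1 ?_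
      rw [← hg, show theta S g * (refB S (N X) * refB S X) * (theta S g)⁻¹ =
        theta S g * refB S (N X) * (theta S g)⁻¹ * (theta S g * refB S X * (theta S g)⁻¹) by group,
        theta_refB S hz, theta_refB S hz, ← e2 (theta S g X) X]
      congr 2
      have := congrArg (fun p : Equiv.Perm (Pt D z) => p X) (h d d.2)
      rw [← hg] at this
      exact this.symm
    rw [rDer_noncomm S hz, Subgroup.mem_bot] at hcen
    exact congrArg Subtype.val hcen
  exact (mul_eq_one_iff_eq_inv.1 hc).trans (inv_eq_of_mul_eq_one_left ((blockGraph S).r_sq X))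

/-- The kernel consists of even elements. -/
theorem kb_sign {φ : G →* ℤˣ} (hφ : ∀ d ∈ D, φ d = -1) {g : ↥(CZ z)} (hg : g ∈ KB S) : φ g = 1 := by
  classical
  obtain ⟨hcR, -, -, hE⟩ := kernel_orders S hz
  -- the products of two members of a block generate the extraspecial group
  set P : Set ↥(RB S (z := z)) := {r | ∃ (A : Pt D z) (a b : G), a ∈ A.1 ∧ b ∈ A.1 ∧ a ≠ b ∧
    ((r : ↥(CZ z)) : G) = a * b} with hP
  set M := Subgroup.closure P ⊔ Subgroup.center ↥(RB S (z := z)) with hM
  have hc : Subgroup.centralizer (M : Set ↥(RB S (z := z))) ≤ Subgroup.center ↥(RB S (z := z)) := by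
    intro r hr
    have h := RB_center S hz (r := (r : ↥(CZ z))) fun A a ha b hb hab => by
      have hm : (⟨_, pair_mem_RB S ha hb hab⟩ : ↥(RB S (z := z))) ∈ M :=
        Subgroup.mem_sup_left (Subgroup.subset_closure ⟨A, a, b, ha, hb, hab, rfl⟩)
      exact congrArg (fun t : ↥(RB S (z := z)) => ((t : ↥(CZ z)) : G)) (Subgroup.mem_centralizer_iff.1 hr _ hm)
    refine Subgroup.mem_center_iff.2 fun s => Subtype.ext (Subtype.ext ?_)
    show ((s : ↥(CZ z)) : G) * ((r : ↥(CZ z)) : G) = ((r : ↥(CZ z)) : G) * ((s : ↥(CZ z)) : G)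
    rcases h with e | e <;> rw [e]
    · rw [one_mul, mul_one]
    · exact Subgroup.mem_centralizer_singleton_iff.1 (s : ↥(CZ z)).2
  have hcM := CfsgLib.LargeExtra.card_centralizer_mul_card hE M le_sup_right
  have heq : Subgroup.centralizer (M : Set ↥(RB S (z := z))) = Subgroup.center ↥(RB S (z := z)) :=
    le_antisymm hc (fun r hr => Subgroup.mem_centralizer_iff.2 fun s _ => Subgroup.mem_center_iff.1 hr s)
  rw [heq] at hcM
  have htop : M = ⊤ := Subgroup.eq_top_of_card_eq _ (mul_left_cancel₀ Nat.card_pos.ne' hcM)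
  have hR : ∀ r : ↥(RB S (z := z)), φ ((r : ↥(CZ z)) : G) = 1 := by
    let χ : ↥(RB S (z := z)) →* ℤˣ := φ.comp ((CZ z).subtype.comp (RB S).subtype)
    have hle : M ≤ χ.ker := by
      refine sup_le ((Subgroup.closure_le _).2 ?_) fun r hr => ?_
      · rintro r ⟨A, a, b, ha, hb, -, e⟩
        show φ ((r : ↥(CZ z)) : G) = 1
        rw [e, map_mul, hφ a (A.2.mem S ha), hφ b (A.2.mem S hb)]; rfl
      · show φ ((r : ↥(CZ z)) : G) = 1
        rcases RB_center S hz (r := (r : ↥(CZ z))) (fun A a ha b hb hab => congrArg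
          (fun t : ↥(RB S (z := z)) => ((t : ↥(CZ z)) : G))
          (Subgroup.mem_center_iff.1 hr ⟨_, pair_mem_RB S ha hb hab⟩)) with e | e <;> rw [e]
        · exact map_one φ
        · obtain ⟨a, b, c, d, U, rfl⟩ := hz
          rw [map_mul, map_mul, map_mul, hφ a U.tri.ha, hφ b U.tri.hb, hφ c U.tri.hc, hφ d U.hd.1.1.1]; rfl
    exact fun r => hle (htop.symm ▸ Subgroup.mem_top r)
  have h3 := hR ⟨_, cube_mem S hz (card_pt S hz) ⟨g, hg⟩⟩
  simp only [Subgroup.coe_mul, map_mul] at h3
  rcases Int.units_eq_one_or (φ (g : G)) with e | e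
  · exact e
  · rw [e] at h3; exact absurd h3 (by decide)

/-- The structure of the centraliser. -/
theorem centralizer_structure {φ : G →* ℤˣ} (hφ : ∀ d ∈ D, φ d = -1) (C : Subgroup G)
    (hC : C = φ.ker ⊓ CZ z) : ∃ (Q : Subgroup ↥C) (_ : Q.Normal), Cfsg.generalizedFittingSubgroup ↥C = Q ∧
      Cfsg.IsExtraspecial 2 ↥Q ∧ Nat.card Q = 2 ^ 13 ∧ ∃ (N M : Subgroup ↥C) (_ : N.Normal) (_ : M.Normal),
        Q ≤ N ∧ N ≤ M ∧ Nat.card N = 3 * Nat.card Q ∧ (∃ (K : Type) (_ : Field K) (_ : Fintype K),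
          Fintype.card K = 9 ∧ Nonempty (↥M ⧸ N.subgroupOf M ≃* Cfsg.PSU 4 K 3)) ∧ M.index = 2 := by
  classical
  haveI : Fact (Nat.Prime 2) := ⟨Nat.prime_two⟩
  obtain ⟨f, ⟨γ⟩⟩ := exists_data S hz
  obtain ⟨hcR, hcK, hcI, hE⟩ := kernel_orders S hz
  obtain ⟨⟨K, i1, i2, hK9, ⟨eD⟩⟩, hsimp, -, hcD⟩ := QGraph.Frame.rDer_main γ
  have hle : C ≤ CZ z := hC ▸ inf_le_right
  let ι : ↥C →* ↥(CZ z) := Subgroup.inclusion hle
  have hι : Function.Injective ι := Subgroup.inclusion_injective hle
  have hmemC : ∀ g : ↥(CZ z), φ g = 1 → (g : G) ∈ C := fun g h => hC.symm ▸ ⟨h, g.2⟩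
  have hKι : ∀ {g : ↥(CZ z)}, g ∈ KB S → g ∈ ι.range := fun {g} hg =>
    ⟨⟨g, hmemC g (kb_sign S hz hφ hg)⟩, rfl⟩
  let θ : ↥C →* Equiv.Perm (Pt D z) := (theta S).comp ι
  set Q := (RB S (z := z)).comap ι with hQdef
  set N := θ.ker with hNdef
  haveI : (RB S (z := z)).Normal := RB_normal S
  haveI hQn : Q.Normal := inferInstance
  have hQN : Q ≤ N := fun x hx => RB_le S hx
  have hQmap : Q.map ι = RB S := Subgroup.map_comap_eq_self fun g hg => hKι (RB_le S hg)
  have hNmap : N.map ι = KB S := by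
    rw [hNdef, ← MonoidHom.comap_ker]
    exact Subgroup.map_comap_eq_self fun g hg => hKι hg
  have hcQ : Nat.card Q = 2 ^ 13 := by rw [← hcR, ← hQmap, Subgroup.card_map_of_injective hι]
  have hcN : Nat.card N = 3 * 2 ^ 13 := by rw [← hcK, ← hNmap, Subgroup.card_map_of_injective hι]
  have hQE : Cfsg.IsExtraspecial 2 ↥Q :=
    CfsgLib.LargeExtra.isExtraspecial_of_mulEquiv
      ((MulEquiv.subgroupCongr hQmap.symm).trans (Q.equivMapOfInjective ι hι).symm) hE
  -- the derived group of the reflections lies in the image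
  have hsign : ∀ u v : ↥(CZ z), ((⁅u, v⁆ : ↥(CZ z)) : G) ∈ C := fun u v => hmemC _ (by
    rw [commutatorElement_def]
    simp only [Subgroup.coe_mul, Subgroup.coe_inv, map_mul, map_inv]
    rw [mul_comm (φ (u : G)), mul_assoc (φ (v : G)), mul_inv_cancel, mul_one, mul_inv_cancel])
  have hDle : QGraph.rDer (blockGraph S (z := z)) ≤ θ.range := by
    refine (Subgroup.commutator_mono (rGroup_le_range S hz) (rGroup_le_range S hz)).trans ?_
    rw [Subgroup.commutator_le]
    rintro _ ⟨u, rfl⟩ _ ⟨v, rfl⟩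
    refine ⟨⟨_, hsign u v⟩, ?_⟩
    show theta S ⁅u, v⁆ = _
    rw [map_commutatorElement]
  set M := (QGraph.rDer (blockGraph S (z := z))).comap θ with hMdef
  have hNM : N ≤ M := fun x hx => by
    show θ x ∈ QGraph.rDer (blockGraph S (z := z))
    rw [show θ x = 1 from hx]; exact one_mem _
  -- the index of `C` in the centraliser
  have hCcard : Nat.card C * 2 = Nat.card ↥(CZ z) := by
    obtain ⟨A⟩ := nonempty_pt hz
    let χ : ↥(CZ z) →* ℤˣ := φ.comp (CZ z).subtype
    have hsurj : Function.Surjective χ := fun u => by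
      rcases Int.units_eq_one_or u with rfl | rfl
      · exact ⟨1, map_one _⟩
      · exact ⟨⟨rep A, member_cz S (rep_mem A)⟩, hφ _ (A.2.mem S (rep_mem A))⟩
    have hker : χ.ker.map (CZ z).subtype = C := by
      rw [hC]; ext g
      simp [χ, and_comm]
    rw [← hker, Subgroup.card_map_of_injective (CZ z).subtype_injective, ← Nat.card_congr
      ((QuotientGroup.quotientKerEquivOfSurjective χ hsurj).toEquiv.trans (Equiv.refl _)) |>.trans
      (show Nat.card ℤˣ = 2 by simp), ← Subgroup.index_eq_card, Subgroup.card_mul_index]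
  have hrange : Nat.card θ.range = 2 * 3265920 := by
    have h := Subgroup.card_mul_index N
    rw [hNdef, Subgroup.index_ker, ← hNdef, hcN] at h
    have h' := card_cz S hz
    rw [← hCcard] at h'
    omega
  have hMidx : M.index = 2 := by
    rw [hMdef, Subgroup.index_comap]
    have h := ((QGraph.rDer (blockGraph S (z := z))).subgroupOf θ.range).index_mul_card
    rw [Nat.card_congr (Subgroup.subgroupOfEquivOfLe hDle).toEquiv, hrange, hcD] at h
    show ((QGraph.rDer (blockGraph S (z := z))).subgroupOf θ.range).index = 2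
    omega
  have hMn : M.Normal := Subgroup.normal_of_index_eq_two hMidx
  -- the quotient
  let ψ : ↥M →* ↥(QGraph.rDer (blockGraph S (z := z))) :=
    (θ.comp M.subtype).codRestrict _ fun x => x.2
  have hψ : Function.Surjective ψ := fun d => by
    obtain ⟨x, hx⟩ := hDle d.2
    exact ⟨⟨x, show θ x ∈ _ from hx.symm ▸ d.2⟩, Subtype.ext hx⟩
  have hψk : ψ.ker = N.subgroupOf M := by
    ext x
    rw [MonoidHom.mem_ker, Subgroup.mem_subgroupOf, hNdef, MonoidHom.mem_ker]
    exact ⟨fun h => congrArg Subtype.val h, fun h => Subtype.ext h⟩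
  refine ⟨Q, hQn, ?_, hQE, hcQ, N, M, θ.normal_ker, hMn, hQN, hNM, by rw [hcN, hcQ],
    ⟨K, i1, i2, hK9, ⟨((QuotientGroup.quotientMulEquivOfEq hψk.symm).trans
      (QuotientGroup.quotientKerEquivOfSurjective ψ hψ)).trans eD⟩⟩, hMidx⟩
  -- the two-core
  have hQ2 : IsPGroup 2 ↥Q := IsPGroup.of_card hcQ
  have hcore : Cfsg.pCore 2 ↥C = Q := by
    refine le_antisymm ?_ (CfsgLib.Cores.le_pCore hQ2)
    set P := Cfsg.pCore 2 ↥C
    haveI hPn : P.Normal := by
      haveI := CfsgLib.Cores.pCore_characteristic (G := ↥C) 2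
      infer_instance
    have hP2 : IsPGroup 2 ↥P := CfsgLib.Cores.isPGroup_pCore 2
    have hPN : P ≤ N := by
      intro p hp
      refine trivial_of_commute S hz (n := ι p) fun d hd => ?_
      obtain ⟨x, rfl⟩ := hDle hd
      have hxM : x ∈ M := hd
      have h1 : ⁅p, x⁆ ∈ P ⊓ M := by
        refine ⟨?_, ?_⟩
        · show ⁅p, x⁆ ∈ P
          rw [commutatorElement_def, mul_assoc p, mul_assoc p]
          exact mul_mem hp (hPn.conj_mem _ (inv_mem hp) x)
        · show ⁅p, x⁆ ∈ M
          rw [commutatorElement_def]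
          exact mul_mem (hMn.conj_mem x hxM p) (inv_mem hxM)
      haveI : ((P ⊓ M).subgroupOf M).Normal := inferInstance
      have hbot : ((P ⊓ M).subgroupOf M).map ψ = ⊥ := by
        haveI : (((P ⊓ M).subgroupOf M).map ψ).Normal := Subgroup.Normal.map inferInstance ψ hψ
        rcases IsSimpleGroup.eq_bot_or_eq_top_of_normal _ this with h | h
        · exact h
        · exfalso
          have h2 : IsPGroup 2 ↥(((P ⊓ M).subgroupOf M).map ψ) :=
            (((hP2.to_le (inf_le_left : P ⊓ M ≤ P))).of_equiv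
              (Subgroup.subgroupOfEquivOfLe (inf_le_right : P ⊓ M ≤ M)).symm).map ψ
          obtain ⟨n, hn⟩ := h2.exists_card_eq
          rw [h, Subgroup.card_top, hcD] at hn
          have h5 : 5 ∣ 2 ^ n := hn ▸ (by norm_num)
          exact absurd (Nat.prime_five.dvd_of_dvd_pow h5) (by norm_num)
      have h3 : ψ ⟨⁅p, x⁆, h1.2⟩ = 1 := by
        rw [← Subgroup.mem_bot, ← hbot]
        exact ⟨⟨⁅p, x⁆, h1.2⟩, h1, rfl⟩
      have h4 : θ ⁅p, x⁆ = 1 := congrArg Subtype.val h3
      rw [map_commutatorElement, commutatorElement_eq_one_iff_mul_comm] at h4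
      exact h4
    obtain ⟨n, hn⟩ := hP2.exists_card_eq
    have hdvd := Subgroup.card_dvd_of_le hPN
    rw [hn, hcN] at hdvd
    have hn13 : 2 ^ n ∣ 2 ^ 13 :=
      Nat.Coprime.dvd_of_dvd_mul_left (Nat.Coprime.pow_left n (by norm_num)) hdvd
    refine (Subgroup.eq_of_le_of_card_ge (CfsgLib.Cores.le_pCore hQ2) ?_).ge
    rw [hn, hcQ]
    exact Nat.le_of_dvd (by norm_num) hn13
  have hchar : CfsgLib.Local.HasCharP 2 ↥C := by
    show Subgroup.centralizer (Cfsg.pCore 2 ↥C : Set ↥C) ≤ Cfsg.pCore 2 ↥C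
    rw [hcore]
    intro x hx
    have h := RB_center S hz (r := ι x) fun A a ha b hb hab => by
      have hab' := pair_mem_RB S ha hb hab
      obtain ⟨y, hy⟩ := hKι (RB_le S hab')
      have h' := congrArg (fun t : ↥C => (ι t : G))
        (Subgroup.mem_centralizer_iff.1 hx y (show ι y ∈ RB S from hy ▸ hab'))
      simp only [map_mul, hy, Subgroup.coe_mul] at h'
      exact h'
    show ι x ∈ RB S
    rcases h with e | e
    · rw [show ι x = 1 from Subtype.ext e]; exact one_mem _
    · rw [show ι x = ⟨z, z_mem_cz S hz⟩ from Subtype.ext e]; exact z_mem_RB S hz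
  rw [hchar.generalizedFittingSubgroup_eq, hcore]

end CfsgLib.M24Quad
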